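import Cfsg.Agent.Lib.TransvMax.SubspaceSL

/-!
Stabilisers of coordinate subspaces in general linear groups.
-/

set_option autoImplicit false

namespace Cfsg.Agent.ParabCoord

open scoped Matrix MatrixGroups
open Cfsg.Agent

variable {F : Type*} [Field F] {n : ℕ}

/-- The span of the first `k` coordinate vectors. -/
def coordSub (n k : ℕ) (F : Type*) [Field F] : Submodule F (Fin n → F) where
  carrier := {v | ∀ i : Fin n, k ≤ (i : ℕ) → v i = 0}
  add_mem' {a b} ha hb i hi := by simp [ha i hi, hb i hi]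
  zero_mem' _ _ := rfl
  smul_mem' c {a} ha i hi := by simp [ha i hi]

theorem single_mem {k : ℕ} {j : Fin n} (hj : (j : ℕ) < k) : Pi.single j (1 : F) ∈ coordSub n k F :=
  fun i hi => Pi.single_eq_of_ne (fun e => by rw [e] at hi; omega) 1

theorem stab_eq (k : ℕ) :
    Cfsg.stabilizing (Cfsg.glToMat (Fin n) F) {v : Fin n → F | ∀ i : Fin n, k ≤ (i : ℕ) → v i = 0} =
      Cfsg.Geo.subspaceStabilizer (coordSub n k F) := rfl

/-- The stabiliser consists of the block upper triangular matrices. -/
theorem mem_stab_iff {k : ℕ} {g : GL (Fin n) F} :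
    g ∈ Cfsg.Geo.subspaceStabilizer (coordSub n k F) ↔
      ∀ i j : Fin n, k ≤ (i : ℕ) → (j : ℕ) < k → (g : Matrix (Fin n) (Fin n) F) i j = 0 := by
  constructor
  · intro h i j hi hj
    have h1 : (g : Matrix (Fin n) (Fin n) F) *ᵥ Pi.single j 1 ∈ coordSub n k F := (h _).1 (single_mem hj)
    have h2 := h1 i hi
    rwa [Matrix.mulVec_single_one] at h2
  · intro h
    refine TransvMax.mem_stab_of_le fun v hv i hi => ?_
    show ∑ j, (g : Matrix (Fin n) (Fin n) F) i j * v j = 0
    refine Finset.sum_eq_zero fun j _ => ?_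
    by_cases hj : (j : ℕ) < k
    · rw [h i j hi hj, zero_mul]
    · rw [hv j (not_lt.1 hj), mul_zero]

theorem finrank_coordSub {k : ℕ} (hk : k ≤ n) : Module.finrank F (coordSub n k F) = k := by
  let e : (coordSub n k F) ≃ₗ[F] (Fin k → F) :=
    { toFun := fun v i => v.1 (Fin.castLE hk i)
      invFun := fun w => ⟨fun i => if h : (i : ℕ) < k then w ⟨i, h⟩ else 0, fun i hi => by
        simp [not_lt.2 hi]⟩
      map_add' := fun v w => rfl
      map_smul' := fun c v => rfl
      left_inv := fun v => by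
        refine Subtype.ext (funext fun i => ?_)
        by_cases h : (i : ℕ) < k
        · simp [h]
        · simp [h, v.2 i (not_lt.1 h)]
      right_inv := fun w => funext fun i => by simp [i.2] }
  rw [e.finrank_eq, Module.finrank_fin_fun]

theorem coordSub_ne_bot {k : ℕ} (h0 : 0 < k) (hk : k ≤ n) : coordSub n k F ≠ ⊥ := fun h => by
  have := finrank_coordSub (F := F) hk
  rw [h, finrank_bot] at this
  omega

theorem coordSub_ne_top {k : ℕ} (hk : k < n) : coordSub n k F ≠ ⊤ := fun h => by
  have := finrank_coordSub (F := F) hk.le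
  rw [h, finrank_top, Module.finrank_fin_fun] at this
  omega

/-- The only invariant subspaces of a subspace stabiliser are `⊥`, the subspace and `⊤`. -/
theorem eq_of_stab_le {W U : Submodule F (Fin n → F)} (hW : W ≠ ⊥) (hU0 : U ≠ ⊥) (hU1 : U ≠ ⊤)
    (h : Cfsg.Geo.subspaceStabilizer W ≤ Cfsg.Geo.subspaceStabilizer U) : U = W := by
  have hUW : U ≤ W := by
    by_contra hUW
    obtain ⟨u, hu, huW⟩ := SetLike.not_le_iff_exists.1 hUW
    have hWU : W ≤ U := by
      intro x hx
      obtain ⟨φ, hφu, hφ⟩ := TransvMax.exists_functional (S := Submodule.span F {x}) (u := u) fun h' => by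
        obtain ⟨c, rfl⟩ := Submodule.mem_span_singleton.1 h'
        exact huW (W.smul_mem _ hx)
      have h0 := hφ x (Submodule.mem_span_singleton_self x)
      have h1 := ((h (TransvMax.trv_mem_stab h0 (Or.inl hx))) u).1 hu
      have h2 : (TransvMax.trv x φ h0 : Matrix (Fin n) (Fin n) F) *ᵥ u ∈ U := h1
      rw [TransvMax.trv_mulVec, hφu, one_smul] at h2
      simpa using U.sub_mem h2 hu
    obtain ⟨g, hg, hgU⟩ := TransvMax.exists_trv_fix_move hUW hW hU1 (Or.inl hWU)
    exact hgU (h hg.1)
  by_contra hne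
  obtain ⟨x, hx, hxU⟩ := SetLike.exists_of_lt (lt_of_le_of_ne hUW hne)
  obtain ⟨u, hu, hu0⟩ := Submodule.exists_mem_ne_zero_of_ne_bot hU0
  obtain ⟨φ, hφu, hφ⟩ := TransvMax.exists_functional (S := Submodule.span F {x}) (u := u) fun h' => by
    obtain ⟨c, rfl⟩ := Submodule.mem_span_singleton.1 h'
    rcases eq_or_ne c 0 with rfl | hc
    · exact hu0 (zero_smul F x)
    · exact hxU (by simpa [smul_smul, inv_mul_cancel₀ hc] using U.smul_mem c⁻¹ hu)
  have h0 := hφ x (Submodule.mem_span_singleton_self x)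
  have h2 : (TransvMax.trv x φ h0 : Matrix (Fin n) (Fin n) F) *ᵥ u ∈ U :=
    ((h (TransvMax.trv_mem_stab h0 (Or.inl hx))) u).1 hu
  rw [TransvMax.trv_mulVec, hφu, one_smul] at h2
  exact hxU (by simpa using U.sub_mem h2 hu)

/-- Transpose-inverse followed by reversing the coordinates. -/
noncomputable def flipAut (n : ℕ) (F : Type*) [Field F] : GL (Fin n) F ≃* GL (Fin n) F where
  toFun g :=
    { val := (g⁻¹ : GL (Fin n) F).1.transpose.submatrix Fin.revPerm Fin.revPerm
      inv := g.1.transpose.submatrix Fin.revPerm Fin.revPerm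
      val_inv := by
        rw [Matrix.submatrix_mul_equiv, ← Matrix.transpose_mul, ← Units.val_mul, mul_inv_cancel,
          Units.val_one, Matrix.transpose_one, Matrix.submatrix_one_equiv]
      inv_val := by
        rw [Matrix.submatrix_mul_equiv, ← Matrix.transpose_mul, ← Units.val_mul, inv_mul_cancel,
          Units.val_one, Matrix.transpose_one, Matrix.submatrix_one_equiv] }
  invFun g :=
    { val := (g⁻¹ : GL (Fin n) F).1.transpose.submatrix Fin.revPerm Fin.revPerm
      inv := g.1.transpose.submatrix Fin.revPerm Fin.revPerm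
      val_inv := by
        rw [Matrix.submatrix_mul_equiv, ← Matrix.transpose_mul, ← Units.val_mul, mul_inv_cancel,
          Units.val_one, Matrix.transpose_one, Matrix.submatrix_one_equiv]
      inv_val := by
        rw [Matrix.submatrix_mul_equiv, ← Matrix.transpose_mul, ← Units.val_mul, inv_mul_cancel,
          Units.val_one, Matrix.transpose_one, Matrix.submatrix_one_equiv] }
  left_inv g := by
    refine Units.ext ?_
    ext i j
    simp
  right_inv g := by
    refine Units.ext ?_
    ext i j
    simp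
  map_mul' a b := by
    refine Units.ext ?_
    show ((a * b)⁻¹ : GL (Fin n) F).1.transpose.submatrix Fin.revPerm Fin.revPerm =
      (a⁻¹ : GL (Fin n) F).1.transpose.submatrix Fin.revPerm Fin.revPerm *
        (b⁻¹ : GL (Fin n) F).1.transpose.submatrix Fin.revPerm Fin.revPerm
    rw [mul_inv_rev, Units.val_mul, Matrix.transpose_mul, Matrix.submatrix_mul_equiv]

theorem flipAut_mem {k : ℕ} (hk : k ≤ n) {g : GL (Fin n) F}
    (hg : g ∈ Cfsg.Geo.subspaceStabilizer (coordSub n k F)) :
    flipAut n F g ∈ Cfsg.Geo.subspaceStabilizer (coordSub n (n - k) F) := by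
  rw [mem_stab_iff]
  intro i j hi hj
  have h := mem_stab_iff.1 (inv_mem hg) (Fin.revPerm j) (Fin.revPerm i)
  refine h ?_ ?_ <;> simp [Fin.val_rev] <;> omega

theorem map_flipAut {k : ℕ} (hk : k ≤ n) :
    (Cfsg.Geo.subspaceStabilizer (coordSub n k F)).map (flipAut n F).toMonoidHom =
      Cfsg.Geo.subspaceStabilizer (coordSub n (n - k) F) := by
  refine le_antisymm ?_ fun g hg => ⟨(flipAut n F).symm g, ?_, (flipAut n F).apply_symm_apply g⟩
  · rintro _ ⟨g, hg, rfl⟩
    exact flipAut_mem hk hg
  · have h := flipAut_mem (Nat.sub_le n k) hg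
    rwa [Nat.sub_sub_self hk] at h

end Cfsg.Agent.ParabCoord
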